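import Groth.Agent.S2421
import Groth.Prelude.Def_CAlg2
import Mathlib.FieldTheory.IsAlgClosed.Basic
import Mathlib.RingTheory.Polynomial.IsIntegral

/-!
Connected components of fibres of proper morphisms over unibranch points: the maximal ideals of the integral
closure of a unibranch local domain in an algebraic extension are counted by embeddings.
-/

set_option autoImplicit false
set_option backward.isDefEq.respectTransparency false
set_option backward.isDefEq.respectTransparency.types false

universe u

open Polynomial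

namespace Groth.Agent.FibComp

/-- A unibranch domain has local normalisation. -/
theorem isLocalRing_integralClosure {A K : Type u} [CommRing A] [IsLocalRing A] [IsDomain A] [Field K]
    [Algebra A K] [IsFractionRing A K] (hA : CAlg2.IsUnibranch A) : IsLocalRing (integralClosure A K) := by
  obtain ⟨hdom, hloc⟩ := hA
  haveI := hdom
  haveI := hloc
  have hbot : nilradical A = ⊥ := (nilradical_eq_zero A).trans rfl
  let e : A ≃+* CAlg2.red A := RingEquiv.ofBijective (Ideal.Quotient.mk (nilradical A))
    ⟨by rw [RingHom.injective_iff_ker_eq_bot, Ideal.mk_ker, hbot], Ideal.Quotient.mk_surjective⟩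
  let E : K ≃+* FractionRing (CAlg2.red A) := IsFractionRing.ringEquivOfRingEquiv e
  have hE : ∀ a, E (algebraMap A K a) = algebraMap (CAlg2.red A) _ (e a) :=
    fun a ↦ IsFractionRing.ringEquivOfRingEquiv_algebraMap e a
  have hiff : ∀ z : K, IsIntegral A z ↔ IsIntegral (CAlg2.red A) (E z) := by
    intro z
    have h : (algebraMap (CAlg2.red A) (FractionRing (CAlg2.red A))).comp e.toRingHom =
        E.toRingHom.comp (algebraMap A K) := RingHom.ext fun a ↦ (hE a).symm
    constructor
    · rintro ⟨P, hP, hz⟩
      refine ⟨P.map e.toRingHom, hP.map _, ?_⟩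
      rw [eval₂_map, h, show (E z) = E.toRingHom z from rfl, ← hom_eval₂, hz, map_zero]
    · rintro ⟨P, hP, hz⟩
      refine ⟨P.map e.symm.toRingHom, hP.map _, E.injective ?_⟩
      rw [eval₂_map, map_zero, show E _ = E.toRingHom _ from rfl, hom_eval₂, ← RingHom.comp_assoc, ← h,
        RingHom.comp_assoc, show e.toRingHom.comp e.symm.toRingHom = RingHom.id _ from
          RingHom.ext fun a ↦ e.apply_symm_apply a, RingHom.comp_id]
      exact hz
  let ψ : integralClosure A K ≃+* CAlg2.normRed A :=
    { toFun := fun z ↦ ⟨E z.1, (hiff z.1).mp z.2⟩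
      invFun := fun z ↦ ⟨E.symm z.1, (hiff _).mpr (by rw [E.apply_symm_apply]; exact z.2)⟩
      left_inv := fun z ↦ Subtype.ext (E.symm_apply_apply _)
      right_inv := fun z ↦ Subtype.ext (E.apply_symm_apply _)
      map_mul' := fun a b ↦ Subtype.ext (map_mul E a.1 b.1)
      map_add' := fun a b ↦ Subtype.ext (map_add E a.1 b.1) }
  exact ψ.symm.isLocalRing

/-- The maximal ideals of the integral closure in an algebraic extension are at most as many as the
embeddings, when the normalisation is local. -/
theorem exists_surjective_embeddings {A K L : Type u} [CommRing A] [IsLocalRing A] [Field K] [Field L]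
    [Algebra A K] [Algebra K L] [Algebra A L] [IsScalarTower A K L] [Algebra.IsAlgebraic K L]
    [IsLocalRing (integralClosure A K)] [Finite (L →ₐ[K] AlgebraicClosure L)] :
    ∃ φ : (L →ₐ[K] AlgebraicClosure L) → MaximalSpectrum (integralClosure A L), Function.Surjective φ := by
  classical
  let Ω := AlgebraicClosure L
  haveI : IsScalarTower A K Ω := IsScalarTower.of_algebraMap_eq fun a ↦ by
    rw [IsScalarTower.algebraMap_apply A L Ω, IsScalarTower.algebraMap_apply K L Ω, ← IsScalarTower.algebraMap_apply A K L]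
  obtain ⟨P₀, hP₀⟩ := Ideal.exists_maximal (integralClosure A Ω)
  haveI := hP₀
  let res : (L →ₐ[K] Ω) → (integralClosure A L →ₐ[A] integralClosure A Ω) :=
    fun σ ↦ ((σ.restrictScalars A).comp (integralClosure A L).val).codRestrict _
      fun x ↦ x.2.map (σ.restrictScalars A)
  have hmax : ∀ σ, (P₀.comap (res σ).toRingHom).IsMaximal := fun σ ↦ by
    haveI : (P₀.comap (res σ).toRingHom).IsPrime := Ideal.comap_isPrime _ _
    refine Ideal.isMaximal_of_isIntegral_of_isMaximal_comap (R := A) _ ?_
    rw [Ideal.comap_comap,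
      show (res σ).toRingHom.comp (algebraMap A (integralClosure A L)) =
        algebraMap A (integralClosure A Ω) from (res σ).comp_algebraMap]
    exact Ideal.isMaximal_comap_of_isIntegral_of_isMaximal P₀
  refine ⟨fun σ ↦ ⟨P₀.comap (res σ).toRingHom, hmax σ⟩, fun Q ↦ ?_⟩
  haveI := Q.isMaximal
  let A' := integralClosure A K
  let j : A' →ₐ[A] integralClosure A L :=
    ((IsScalarTower.toAlgHom A K L).comp A'.val).codRestrict _ fun x ↦ x.2.map (IsScalarTower.toAlgHom A K L)
  let jΩ : A' →ₐ[A] integralClosure A Ω :=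
    ((IsScalarTower.toAlgHom A K Ω).comp A'.val).codRestrict _ fun x ↦ x.2.map (IsScalarTower.toAlgHom A K Ω)
  have hsame : Q.asIdeal.comap j.toRingHom = P₀.comap jΩ.toRingHom := by
    have hm : ∀ (B : Type u) [CommRing B] [Algebra A B] [Algebra.IsIntegral A B] (ψ : A' →ₐ[A] B)
        (I : Ideal B), I.IsMaximal → I.comap ψ.toRingHom = IsLocalRing.maximalIdeal A' := by
      intro B _ _ _ ψ I hI
      haveI := hI
      refine IsLocalRing.eq_maximalIdeal ?_
      haveI : (I.comap ψ.toRingHom).IsPrime := Ideal.comap_isPrime _ _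
      refine Ideal.isMaximal_of_isIntegral_of_isMaximal_comap (R := A) _ ?_
      rw [Ideal.comap_comap,
        show ψ.toRingHom.comp (algebraMap A A') = algebraMap A B from ψ.comp_algebraMap]
      exact Ideal.isMaximal_comap_of_isIntegral_of_isMaximal I
    rw [hm _ j _ Q.isMaximal, hm _ jΩ _ hP₀]
  have key : ∀ x ∈ Q.asIdeal, ∃ σ, x ∈ P₀.comap (res σ).toRingHom := by
    intro x hx
    let p := minpoly K (x.1 : L)
    have hxK : IsIntegral K (x.1 : L) := Algebra.IsIntegral.isIntegral _
    obtain ⟨P, hP, hPx⟩ := x.2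
    have hdvd : p ∣ P.map (algebraMap A K) := by
      refine minpoly.dvd K _ ?_
      rw [aeval_map_algebraMap]
      exact hPx
    have hcoeff : ∀ i, IsIntegral A (p.coeff i) :=
      fun i ↦ Polynomial.isIntegral_coeff_of_dvd (R := A) P p hP (minpoly.monic hxK) hdvd i
    -- the constant coefficient lies in `Q`
    let c : ℕ → A' := fun i ↦ ⟨p.coeff i, hcoeff i⟩
    have h0 : j (c 0) ∈ Q.asIdeal := by
      have hsum : (j (c 0) : integralClosure A L) =
          -(x * ∑ i ∈ Finset.range p.natDegree, j (c (i + 1)) * x ^ i) := by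
        rw [eq_neg_iff_add_eq_zero]
        apply Subtype.ext
        have h := minpoly.aeval K (x.1 : L)
        rw [aeval_eq_sum_range, Finset.sum_range_succ'] at h
        push_cast
        rw [add_comm, Finset.mul_sum]
        convert h using 2
        · refine Finset.sum_congr rfl fun i _ ↦ ?_
          rw [Algebra.smul_def, pow_succ]
          simp [j, c, p]
          ring
        · simp [j, c, p, Algebra.smul_def]
      rw [hsum]
      exact Q.asIdeal.neg_mem (Q.asIdeal.mul_mem_right _ hx)
    have h0' : jΩ (c 0) ∈ P₀ := (hsame ▸ (show c 0 ∈ Q.asIdeal.comap j.toRingHom from h0) :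
      c 0 ∈ P₀.comap jΩ.toRingHom)
    have hroots : ∀ r ∈ (p.map (algebraMap K Ω)).roots, ∃ σ : L →ₐ[K] Ω, σ x.1 = r := by
      intro r hr
      have : r ∈ p.rootSet Ω := by
        rw [Polynomial.rootSet_def]
        exact Finset.mem_coe.mpr (Multiset.mem_toFinset.mpr hr)
      rw [← Algebra.IsAlgebraic.range_eval_eq_rootSet_minpoly] at this
      exact this
    choose τ hτ using hroots
    let s : Multiset (integralClosure A Ω) := (p.map (algebraMap K Ω)).roots.attach.map fun r ↦ res (τ r.1 r.2) x
    have hs : ((s.prod : integralClosure A Ω) : Ω) = (p.map (algebraMap K Ω)).roots.prod := by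
      rw [← Subalgebra.coe_val, map_multiset_prod, Multiset.map_map]
      exact congrArg Multiset.prod
        (((p.map (algebraMap K Ω)).roots.attach.map_congr rfl fun r _ ↦ hτ r.1 r.2).trans
          (Multiset.attach_map_val _))
    have hprod : s.prod ∈ P₀ := by
      have hv := Splits.coeff_zero_eq_prod_roots_of_monic (IsAlgClosed.splits (p.map (algebraMap K Ω)))
        ((minpoly.monic hxK).map _)
      have : s.prod = (-1) ^ (p.map (algebraMap K Ω)).natDegree * jΩ (c 0) := by
        apply Subtype.ext
        rw [hs]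
        simp only [jΩ, c, Subalgebra.coe_mul, Subalgebra.coe_pow, Subalgebra.coe_neg, Subalgebra.coe_one]
        change _ = _ * algebraMap K Ω (p.coeff 0)
        rw [← coeff_map, hv, ← mul_assoc, ← mul_pow, neg_one_mul, neg_neg, one_pow, one_mul]
      rw [this]
      exact P₀.mul_mem_left _ h0'
    obtain ⟨r, hr, hrP⟩ := (Ideal.IsPrime.multiset_prod_mem_iff_exists_mem inferInstance s).mp hprod
    obtain ⟨r', -, rfl⟩ := Multiset.mem_map.mp hr
    exact ⟨τ r'.1 r'.2, hrP⟩
  cases nonempty_fintype (L →ₐ[K] Ω)
  have hsub : (Q.asIdeal : Set (integralClosure A L)) ⊆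
      ⋃ σ ∈ ((Finset.univ : Finset (L →ₐ[K] Ω)) : Set (L →ₐ[K] Ω)),
        (P₀.comap (res σ).toRingHom : Set (integralClosure A L)) := by
    intro x hx
    obtain ⟨σ, hσ⟩ := key x hx
    exact Set.mem_iUnion₂.mpr ⟨σ, Finset.mem_coe.mpr (Finset.mem_univ σ), hσ⟩
  obtain ⟨σ₀⟩ : Nonempty (L →ₐ[K] Ω) := ⟨IsScalarTower.toAlgHom K L Ω⟩
  obtain ⟨σ, -, hσ⟩ := (Ideal.subset_union_prime σ₀ σ₀ fun σ _ _ _ ↦ (hmax σ).isPrime).mp hsub
  exact ⟨σ, MaximalSpectrum.ext (Q.isMaximal.eq_of_le (hmax σ).ne_top hσ).symm⟩

end Groth.Agent.FibComp
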