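import Groth.Agent.FibComp.Count
import Groth.Prelude.Def_Pi1
import Mathlib.FieldTheory.AlgebraicClosure

/-! Number of connected components of fibres over unibranch points. -/

set_option autoImplicit false
set_option backward.isDefEq.respectTransparency false
set_option backward.isDefEq.respectTransparency.types false

universe u

open CategoryTheory CategoryTheory.Limits AlgebraicGeometry TopologicalSpace

namespace Groth.Agent.FibComp

theorem finite_and_card_le {X Y : Scheme.{u}} [IsIntegral X] [IsIntegral Y] [IsLocallyNoetherian X]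
    [IsLocallyNoetherian Y] (f : X ⟶ Y) [IsProper f] (hdom : f.base (genericPoint X) ⤳ genericPoint Y)
    [Algebra Y.functionField X.functionField]
    (halg : algebraMap Y.functionField X.functionField = CohIII.stalkToFunctionField f (genericPoint Y) hdom)
    [Finite (↥(algebraicClosure Y.functionField X.functionField) →ₐ[Y.functionField]
      AlgebraicClosure ↥(algebraicClosure Y.functionField X.functionField))]
    (y : Y) (hy : CAlg2.IsUnibranch (Y.presheaf.stalk y)) :
    Finite (_root_.ConnectedComponents ↥(f.fiber y)) ∧ Nat.card (_root_.ConnectedComponents ↥(f.fiber y)) ≤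
      Nat.card (↥(algebraicClosure Y.functionField X.functionField) →ₐ[Y.functionField]
        AlgebraicClosure ↥(algebraicClosure Y.functionField X.functionField)) := by
  have h : f.base (genericPoint X) ⤳ y :=
    hdom.trans ((genericPoint_spec Y).specializes trivial)
  have hgen : f.base (genericPoint X) = genericPoint Y :=
    (hdom.antisymm ((genericPoint_spec Y).specializes trivial)).eq
  letI algA : Algebra (Y.presheaf.stalk y) X.functionField := (CohIII.stalkToFunctionField f y h).toAlgebra
  haveI : IsScalarTower (Y.presheaf.stalk y) Y.functionField X.functionField :=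
    IsScalarTower.of_algebraMap_eq fun a ↦ by
      rw [halg]
      change CohIII.stalkToFunctionField f y h a = CohIII.stalkToFunctionField f (genericPoint Y) hdom
        (Y.presheaf.stalkSpecializes ((genericPoint_spec Y).specializes trivial) a)
      simp only [CohIII.stalkToFunctionField, RingHom.comp_apply]
      rw [← CommRingCat.comp_apply (Y.presheaf.stalkSpecializes _) (Y.presheaf.stalkSpecializes hdom),
        TopCat.Presheaf.stalkSpecializes_comp]
  haveI : IsDomain (Y.presheaf.stalk y) := inferInstance
  haveI := isLocalRing_integralClosure (K := Y.functionField) hy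
  let L := algebraicClosure Y.functionField X.functionField
  haveI : IsScalarTower (Y.presheaf.stalk y) Y.functionField L := inferInstance
  haveI : IsScalarTower (Y.presheaf.stalk y) L X.functionField := IsScalarTower.of_algebraMap_eq fun a ↦ by
    rw [IsScalarTower.algebraMap_apply (Y.presheaf.stalk y) Y.functionField L, IsScalarTower.algebraMap_apply (Y.presheaf.stalk y) Y.functionField X.functionField]
    rfl
  obtain ⟨φ, hφ⟩ := exists_surjective_embeddings (A := Y.presheaf.stalk y) (K := Y.functionField) (L := L)
  let C := CohIII.integralClosureStalk f y h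
  have hmem : ∀ c : C, (c : X.functionField) ∈ L := fun c ↦
    (mem_algebraicClosure_iff'.mpr (IsIntegral.tower_top (show IsIntegral (Y.presheaf.stalk y) (c : X.functionField) from c.2)))
  let ι : integralClosure (Y.presheaf.stalk y) L ≃+* C :=
    { toFun := fun z ↦ ⟨(z.1 : X.functionField), z.2.map (IsScalarTower.toAlgHom (Y.presheaf.stalk y) L X.functionField)⟩
      invFun := fun c ↦ ⟨⟨c.1, hmem c⟩, (isIntegral_algHom_iff
        (IsScalarTower.toAlgHom (Y.presheaf.stalk y) L X.functionField) Subtype.val_injective).mp c.2⟩
      left_inv := fun z ↦ rfl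
      right_inv := fun c ↦ rfl
      map_mul' := fun a b ↦ rfl
      map_add' := fun a b ↦ rfl }
  let ψ : MaximalSpectrum (integralClosure (Y.presheaf.stalk y) L) → MaximalSpectrum C := fun Q ↦
    ⟨Q.asIdeal.comap ι.symm.toRingHom,
      haveI := Q.isMaximal
      Ideal.comap_isMaximal_of_surjective _ ι.symm.surjective⟩
  have hψ : Function.Surjective ψ := fun Q ↦
    ⟨⟨Q.asIdeal.comap ι.toRingHom,
      haveI := Q.isMaximal
      Ideal.comap_isMaximal_of_surjective _ ι.surjective⟩, MaximalSpectrum.ext (by
        change (Q.asIdeal.comap ι.toRingHom).comap ι.symm.toRingHom = Q.asIdeal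
        rw [Ideal.comap_comap, show ι.toRingHom.comp ι.symm.toRingHom = RingHom.id C from
          RingHom.ext fun c ↦ ι.apply_symm_apply c, Ideal.comap_id])⟩
  have h1 := (Groth.Agent.S2421.result f hgen y h).trans
    (Cardinal.mk_le_of_surjective (hψ.comp hφ))
  have hfin : Finite (_root_.ConnectedComponents ↥(f.fiber y)) :=
    Cardinal.lt_aleph0_iff_finite.mp (h1.trans_lt (Cardinal.lt_aleph0_of_finite _))
  exact ⟨hfin, Cardinal.toNat_le_toNat h1 (Cardinal.lt_aleph0_of_finite _)⟩

/-- Being unibranch only depends on the isomorphism class of the ring. -/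
theorem isUnibranch_of_ringEquiv {A B : Type u} [CommRing A] [IsLocalRing A] [IsDomain A] [CommRing B]
    [IsLocalRing B] (e : A ≃+* B) (hA : CAlg2.IsUnibranch A) : CAlg2.IsUnibranch B := by
  haveI : IsDomain B := e.symm.injective.isDomain e.symm.toRingHom
  haveI := isLocalRing_integralClosure (K := FractionRing A) hA
  have hbot : nilradical B = ⊥ := (nilradical_eq_zero B).trans rfl
  let q : B ≃+* CAlg2.red B := RingEquiv.ofBijective (Ideal.Quotient.mk (nilradical B))
    ⟨by rw [RingHom.injective_iff_ker_eq_bot, Ideal.mk_ker, hbot], Ideal.Quotient.mk_surjective⟩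
  haveI : IsDomain (CAlg2.red B) := q.symm.injective.isDomain q.symm.toRingHom
  let r : A ≃+* CAlg2.red B := e.trans q
  let E : FractionRing A ≃+* FractionRing (CAlg2.red B) := IsFractionRing.ringEquivOfRingEquiv r
  have hE : ∀ a, E (algebraMap A _ a) = algebraMap (CAlg2.red B) _ (r a) :=
    fun a ↦ IsFractionRing.ringEquivOfRingEquiv_algebraMap r a
  have h : (algebraMap (CAlg2.red B) (FractionRing (CAlg2.red B))).comp r.toRingHom =
      E.toRingHom.comp (algebraMap A (FractionRing A)) := RingHom.ext fun a ↦ (hE a).symm
  have hiff : ∀ z : FractionRing A, IsIntegral A z ↔ IsIntegral (CAlg2.red B) (E z) := by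
    intro z
    constructor
    · rintro ⟨P, hP, hz⟩
      refine ⟨P.map r.toRingHom, hP.map _, ?_⟩
      rw [Polynomial.eval₂_map, h, show (E z) = E.toRingHom z from rfl, ← Polynomial.hom_eval₂, hz, map_zero]
    · rintro ⟨P, hP, hz⟩
      refine ⟨P.map r.symm.toRingHom, hP.map _, E.injective ?_⟩
      rw [Polynomial.eval₂_map, map_zero, show E _ = E.toRingHom _ from rfl, Polynomial.hom_eval₂,
        ← RingHom.comp_assoc, ← h, RingHom.comp_assoc,
        show r.toRingHom.comp r.symm.toRingHom = RingHom.id _ from RingHom.ext fun a ↦ r.apply_symm_apply a,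
        RingHom.comp_id]
      exact hz
  let ψ : integralClosure A (FractionRing A) ≃+* CAlg2.normRed B :=
    { toFun := fun z ↦ ⟨E z.1, (hiff z.1).mp z.2⟩
      invFun := fun z ↦ ⟨E.symm z.1, (hiff _).mpr (by rw [E.apply_symm_apply]; exact z.2)⟩
      left_inv := fun z ↦ Subtype.ext (E.symm_apply_apply _)
      right_inv := fun z ↦ Subtype.ext (E.apply_symm_apply _)
      map_mul' := fun a b ↦ Subtype.ext (map_mul E a.1 b.1)
      map_add' := fun a b ↦ Subtype.ext (map_add E a.1 b.1) }
  exact ⟨inferInstance, ψ.isLocalRing⟩

end Groth.Agent.FibComp
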